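import Groth.Agent.OpenMVLib.Via

/-!
# The Mayer–Vietoris sequence of two opens in étale cohomology
-/

set_option autoImplicit false
set_option backward.isDefEq.respectTransparency false
set_option backward.isDefEq.respectTransparency.types false
set_option linter.style.haveILetI false
set_option linter.unusedSectionVars false
set_option maxHeartbeats 1000000

universe u

open CategoryTheory CategoryTheory.Limits AlgebraicGeometry Opposite CategoryTheory.Abelian

attribute [local instance] Groth.Agent.S0101.result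

noncomputable section

namespace Groth.Agent.OpenMVLib

open EtPtsLib

variable {X A B C : Scheme.{u}} (jA : A ⟶ X) (jB : B ⟶ X) (jC : C ⟶ X)
  [IsOpenImmersion jA] [IsOpenImmersion jB] [IsOpenImmersion jC]
  [EtShriek.JCont jA] [EtShriek.JCont jB] [EtShriek.JCont jC]
  (kA : C ⟶ A) (wA : kA ≫ jA = jC) (kB : C ⟶ B) (wB : kB ≫ jB = jC)

/-- The two inclusions of the intersection. -/
def mvF : GW jC ⟶ GW jA ⊞ GW jB := biprod.lift (iota jA jC kA wA) (-iota jB jC kB wB)

/-- The sum of the two inclusions into the constant sheaf. -/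
def mvG : GW jA ⊞ GW jB ⟶ EtCoh.const X ℤ := biprod.desc (eps jA) (eps jB)

theorem mvF_mvG : mvF jA jB jC kA wA kB wB ≫ mvG jA jB = 0 := by
  rw [mvF, mvG, biprod.lift_desc, Preadditive.neg_comp, iota_eps, iota_eps, add_neg_cancel]

/-- The short complex of the cover. -/
abbrev mvS : ShortComplex (EtCoh.Ab X) :=
  ShortComplex.mk (mvF jA jB jC kA wA kB wB) (mvG jA jB) (mvF_mvG jA jB jC kA wA kB wB)

theorem stalk_zero {W : Scheme.{u}} (j : W ⟶ X) [IsOpenImmersion j] [EtShriek.JCont j] {Ω : Type u} [Field Ω]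
    [IsSepClosed Ω] (ξ : Spec (CommRingCat.of Ω) ⟶ X) (h : ξ default ∉ Set.range j)
    (a : (EtCoh.stalk ξ).obj (GW j)) : a = 0 :=
  haveI : Subsingleton ((EtCoh.stalk ξ).obj (GW j)) :=
    (FLCLib.subsingleton_iff_isZero _).2 (isZero_stalk_extZero j ξ h _)
  Subsingleton.elim (α := ((EtCoh.stalk ξ).obj (GW j))) a 0

theorem stalk_bij {W : Scheme.{u}} (j : W ⟶ X) [IsOpenImmersion j] [EtShriek.JCont j] {Ω : Type u} [Field Ω]
    [IsSepClosed Ω] (ξ : Spec (CommRingCat.of Ω) ⟶ X) (h : ξ default ∈ Set.range j) :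
    Function.Bijective ((EtCoh.stalk ξ).map (eps j)) := by
  obtain ⟨ζ, rfl⟩ := EtPtsLib.exists_comp_eq j ξ h
  haveI := FLCLib.isIso_stalk_counit_on j (EtCoh.const X ℤ) ζ
  exact ConcreteCategory.bijective_of_isIso _

theorem shortExact_mvS (hcov : ∀ x : X, x ∈ Set.range jA ∨ x ∈ Set.range jB)
    (hC : Set.range jA ∩ Set.range jB ⊆ Set.range jC) : (mvS jA jB jC kA wA kB wB).ShortExact := by
  haveI : Mono (mvF jA jB jC kA wA kB wB) := by
    haveI := mono_iota jA jC kA wA
    exact mono_of_mono_fac (biprod.lift_fst (iota jA jC kA wA) (-iota jB jC kB wB))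
  haveI : Epi (mvG jA jB) := (epi_iff_ab _).2 fun Ω _ _ ξ y => by
    rcases hcov (ξ default) with h | h
    · obtain ⟨a, ha⟩ := (stalk_bij jA ξ h).2 y
      refine ⟨(EtCoh.stalk ξ).map biprod.inl a, ?_⟩
      show ((EtCoh.stalk ξ).map (mvG jA jB)) ((EtCoh.stalk ξ).map biprod.inl a) = y
      rw [← ConcreteCategory.comp_apply, ← Functor.map_comp, mvG, biprod.inl_desc]
      exact ha
    · obtain ⟨a, ha⟩ := (stalk_bij jB ξ h).2 y
      refine ⟨(EtCoh.stalk ξ).map biprod.inr a, ?_⟩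
      show ((EtCoh.stalk ξ).map (mvG jA jB)) ((EtCoh.stalk ξ).map biprod.inr a) = y
      rw [← ConcreteCategory.comp_apply, ← Functor.map_comp, mvG, biprod.inr_desc]
      exact ha
  refine { exact := ?_ }
  rw [exact_iff_ab]
  intro Ω _ _ ξ
  rw [ShortComplex.ab_exact_iff]
  intro z hz
  let σ := EtCoh.stalk ξ
  haveI : (EtCoh.stalk ξ).Additive := Functor.additive_of_preserves_binary_products _
  change σ.obj (GW jA ⊞ GW jB) at z
  let a : σ.obj (GW jA) := σ.map (biprod.fst : GW jA ⊞ GW jB ⟶ _) z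
  let b : σ.obj (GW jB) := σ.map (biprod.snd : GW jA ⊞ GW jB ⟶ _) z
  have hab : σ.map (eps jA) a + σ.map (eps jB) b = 0 := by
    rw [← hz]
    show σ.map (eps jA) a + σ.map (eps jB) b = σ.map (mvG jA jB) z
    rw [← ConcreteCategory.comp_apply, ← ConcreteCategory.comp_apply, ← Functor.map_comp, ← Functor.map_comp,
      mvG, biprod.desc_eq, Functor.map_add]
    rfl
  obtain ⟨c, hc⟩ : ∃ c, σ.map (eps jC) c = σ.map (eps jA) a := by
    by_cases hA : ξ default ∈ Set.range jA
    · by_cases hB : ξ default ∈ Set.range jB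
      · exact (stalk_bij jC ξ (hC ⟨hA, hB⟩)).2 _
      · refine ⟨0, ?_⟩
        rw [stalk_zero jB ξ hB b, map_zero, add_zero] at hab
        rw [hab, map_zero]
    · exact ⟨0, by rw [stalk_zero jA ξ hA a, map_zero, map_zero]⟩
  have hinj : ∀ {W : Scheme.{u}} (j : W ⟶ X) [IsOpenImmersion j] [EtShriek.JCont j] (p q : σ.obj (GW j)),
      σ.map (eps j) p = σ.map (eps j) q → p = q := fun j _ _ p q hpq => by
    by_cases h : ξ default ∈ Set.range j
    · exact (stalk_bij j ξ h).1 hpq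
    · rw [stalk_zero j ξ h p, stalk_zero j ξ h q]
  have h₁ : σ.map (iota jA jC kA wA) c = a := hinj jA _ _ (by
    rw [← ConcreteCategory.comp_apply, ← Functor.map_comp, iota_eps, hc])
  have h₂ : σ.map (iota jB jC kB wB) c = -b := hinj jB _ _ (by
    rw [← ConcreteCategory.comp_apply, ← Functor.map_comp, iota_eps, hc, map_neg]
    exact eq_neg_of_add_eq_zero_left hab)
  refine ⟨c, ?_⟩
  show σ.map (mvF jA jB jC kA wA kB wB) c = z
  have hmv : mvF jA jB jC kA wA kB wB =
      iota jA jC kA wA ≫ biprod.inl - iota jB jC kB wB ≫ biprod.inr := by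
    rw [mvF, biprod.lift_eq, Preadditive.neg_comp, sub_eq_add_neg]
  rw [hmv, Functor.map_sub, Functor.map_comp, Functor.map_comp]
  show σ.map biprod.inl (σ.map (iota jA jC kA wA) c) - σ.map biprod.inr (σ.map (iota jB jC kB wB) c) = z
  rw [h₁, h₂, map_neg, sub_neg_eq_add]
  have h := congrArg (fun f => σ.map f z) (biprod.total (X := GW jA) (Y := GW jB))
  simp only [Functor.map_add, Functor.map_comp, CategoryTheory.Functor.map_id] at h
  exact h

variable (F : EtCoh.Ab X) [PreservesFiniteLimits (EtCoh.pull jA)] [PreservesFiniteLimits (EtCoh.pull jB)]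
  [PreservesFiniteLimits (EtCoh.pull kA)] [PreservesFiniteLimits (EtCoh.pull kB)]

/-- Restriction to the two opens. -/
abbrev rmap (n : ℕ) : EtCoh.H X F n →+
    EtCoh.H A ((EtCoh.pull jA).obj F) n × EtCoh.H B ((EtCoh.pull jB).obj F) n :=
  AddMonoidHom.prod (EtCore.Hpull jA F n) (EtCore.Hpull jB F n)

/-- The difference on the intersection. -/
abbrev dmap (n : ℕ) : EtCoh.H A ((EtCoh.pull jA).obj F) n × EtCoh.H B ((EtCoh.pull jB).obj F) n →+
    EtCoh.H C ((EtCoh.pull jC).obj F) n :=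
  (EtCore.HpullVia kA jA jC wA F n).comp (AddMonoidHom.fst _ _) -
    (EtCore.HpullVia kB jB jC wB F n).comp (AddMonoidHom.snd _ _)

theorem exists_mayerVietoris (hcov : ∀ x : X, x ∈ Set.range jA ∨ x ∈ Set.range jB)
    (hC : Set.range jA ∩ Set.range jB ⊆ Set.range jC) :
    ∃ δ : ∀ n : ℕ, EtCoh.H C ((EtCoh.pull jC).obj F) n →+ EtCoh.H X F (n + 1),
      (rmap jA jB F 0).ker = ⊥ ∧
      (∀ n : ℕ, (rmap jA jB F (n + 1)).ker = (δ n).range) ∧
      (∀ n : ℕ, (dmap jA jB jC kA wA kB wB F n).ker = (rmap jA jB F n).range) ∧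
      (∀ n : ℕ, (δ n).ker = (dmap jA jB jC kA wA kB wB F n).range) := by
  have hS := shortExact_mvS jA jB jC kA wA kB wB hcov hC
  let S := mvS jA jB jC kA wA kB wB
  let eC := fun n => AddEquiv.ofBijective (Phi jC F n) (bijective_Phi jC F n)
  let bm : ∀ n, Ext (GW jA ⊞ GW jB) F n →+
      EtCoh.H A ((EtCoh.pull jA).obj F) n × EtCoh.H B ((EtCoh.pull jB).obj F) n := fun n =>
    AddMonoidHom.prod ((Phi jA F n).comp ((Ext.mk₀ biprod.inl).precomp F (zero_add n)))
      ((Phi jB F n).comp ((Ext.mk₀ biprod.inr).precomp F (zero_add n)))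
  have hbm : ∀ n, Function.Bijective (bm n) := fun n => by
    refine ⟨(injective_iff_map_eq_zero _).2 fun e he => ?_, fun v => ?_⟩
    · have h₁ : Phi jA F n ((Ext.mk₀ biprod.inl).comp e (zero_add n)) = 0 := congrArg Prod.fst he
      have h₂ : Phi jB F n ((Ext.mk₀ biprod.inr).comp e (zero_add n)) = 0 := congrArg Prod.snd he
      exact Ext.biprod_ext (((bijective_Phi jA F n).1 (h₁.trans (map_zero _).symm)).trans (Ext.comp_zero _ _ _ _ _).symm)
        (((bijective_Phi jB F n).1 (h₂.trans (map_zero _).symm)).trans (Ext.comp_zero _ _ _ _ _).symm)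
    · obtain ⟨a, ha⟩ := (bijective_Phi jA F n).2 v.1
      obtain ⟨b, hb⟩ := (bijective_Phi jB F n).2 v.2
      refine ⟨(Ext.biprodAddEquiv (X₁ := GW jA) (X₂ := GW jB) (Y := F) (n := n)).symm (a, b), Prod.ext ?_ ?_⟩
      · have h := congrArg Prod.fst ((Ext.biprodAddEquiv (X₁ := GW jA) (X₂ := GW jB) (Y := F) (n := n)).apply_symm_apply (a, b))
        exact (congrArg (Phi jA F n) h).trans ha
      · have h := congrArg Prod.snd ((Ext.biprodAddEquiv (X₁ := GW jA) (X₂ := GW jB) (Y := F) (n := n)).apply_symm_apply (a, b))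
        exact (congrArg (Phi jB F n) h).trans hb
  have hr : ∀ n (x : EtCoh.H X F n), rmap jA jB F n x = bm n ((Ext.mk₀ S.g).comp x (zero_add n)) := fun n x => by
    refine Prod.ext ?_ ?_
    · show EtCore.Hpull jA F n x = Phi jA F n ((Ext.mk₀ biprod.inl).comp ((Ext.mk₀ (mvG jA jB)).comp x (zero_add n)) (zero_add n))
      rw [Ext.mk₀_comp_mk₀_assoc, mvG, biprod.inl_desc, Phi_eps]
    · show EtCore.Hpull jB F n x = Phi jB F n ((Ext.mk₀ biprod.inr).comp ((Ext.mk₀ (mvG jA jB)).comp x (zero_add n)) (zero_add n))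
      rw [Ext.mk₀_comp_mk₀_assoc, mvG, biprod.inr_desc, Phi_eps]
  have hd : ∀ n (e : Ext (GW jA ⊞ GW jB) F n),
      dmap jA jB jC kA wA kB wB F n (bm n e) = Phi jC F n ((Ext.mk₀ S.f).comp e (zero_add n)) := fun n e => by
    show EtCore.HpullVia kA jA jC wA F n (Phi jA F n ((Ext.mk₀ biprod.inl).comp e (zero_add n))) -
      EtCore.HpullVia kB jB jC wB F n (Phi jB F n ((Ext.mk₀ biprod.inr).comp e (zero_add n))) = _
    rw [via_Phi, via_Phi, ← map_sub, Ext.mk₀_comp_mk₀_assoc, Ext.mk₀_comp_mk₀_assoc]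
    refine congrArg (Phi jC F n) ?_
    have hmv : S.f = iota jA jC kA wA ≫ biprod.inl + -(iota jB jC kB wB ≫ biprod.inr) := by
      show mvF jA jB jC kA wA kB wB = _
      rw [mvF, biprod.lift_eq, Preadditive.neg_comp]
    rw [hmv, Ext.mk₀_add, Ext.mk₀_neg, Ext.add_comp, Ext.neg_comp, sub_eq_add_neg]
  refine ⟨fun n => (hS.extClass.precomp F (Nat.add_comm 1 n)).comp (eC n).symm.toAddMonoidHom,
    (AddMonoidHom.ker_eq_bot_iff _).2 ((injective_iff_map_eq_zero _).2 fun x hx => ?_), fun n => ?_, fun n => ?_, fun n => ?_⟩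
  · rw [hr] at hx
    have h0 := (hbm 0).1 (hx.trans (map_zero _).symm)
    obtain ⟨φ, rfl⟩ := (Ext.mk₀_bijective _ _).2 x
    rw [Ext.mk₀_comp_mk₀] at h0
    haveI := hS.epi_g
    have : S.g ≫ φ = 0 := (Ext.mk₀_bijective _ _).1 (h0.trans (Ext.mk₀_zero _ _).symm)
    rw [(cancel_epi S.g).1 (this.trans comp_zero.symm), Ext.mk₀_zero]
  · ext x
    rw [AddMonoidHom.mem_ker, AddMonoidHom.mem_range, hr]
    constructor
    · intro hx
      obtain ⟨y, hy⟩ := Ext.contravariant_sequence_exact₃ hS F x ((hbm (n + 1)).1 (hx.trans (map_zero _).symm))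
        (Nat.add_comm 1 n)
      refine ⟨eC n y, ?_⟩
      show hS.extClass.comp ((eC n).symm (eC n y)) (Nat.add_comm 1 n) = x
      rw [AddEquiv.symm_apply_apply]
      exact hy
    · rintro ⟨v, rfl⟩
      show bm (n + 1) ((Ext.mk₀ S.g).comp (hS.extClass.comp ((eC n).symm v) (Nat.add_comm 1 n)) (zero_add (n + 1))) = 0
      rw [ShortComplex.ShortExact.comp_extClass_assoc, map_zero]
  · ext v
    obtain ⟨e, rfl⟩ := (hbm n).2 v
    rw [AddMonoidHom.mem_ker, AddMonoidHom.mem_range, hd]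
    constructor
    · intro h
      obtain ⟨x, hx⟩ := Ext.contravariant_sequence_exact₂ hS F e ((eC n).injective (h.trans (map_zero _).symm))
      exact ⟨x, by rw [hr, hx]⟩
    · rintro ⟨x, hx⟩
      rw [hr] at hx
      rw [← (hbm n).1 hx, Ext.mk₀_comp_mk₀_assoc, S.zero, Ext.mk₀_zero, Ext.zero_comp, map_zero]
  · ext v
    obtain ⟨y, rfl⟩ := (eC n).surjective v
    rw [AddMonoidHom.mem_ker, AddMonoidHom.mem_range]
    show hS.extClass.comp ((eC n).symm (eC n y)) (Nat.add_comm 1 n) = 0 ↔ _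
    rw [AddEquiv.symm_apply_apply]
    constructor
    · intro h
      obtain ⟨e, he⟩ := Ext.contravariant_sequence_exact₁ hS F y (Nat.add_comm 1 n) h
      exact ⟨bm n e, by rw [hd, he]; rfl⟩
    · rintro ⟨v, hv⟩
      obtain ⟨e, rfl⟩ := (hbm n).2 v
      rw [hd] at hv
      rw [← (eC n).injective hv, ShortComplex.ShortExact.extClass_comp_assoc]

end Groth.Agent.OpenMVLib
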