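import Groth.Agent.FLCLib.Filtration
import Groth.Agent.CompBCLib.Via
import Groth.Agent.BCVertLib.EtaleBCQ
import Groth.Agent.SiteBase.ExtAdjoint
import Groth.Agent.PBCLib.Fibration
import Groth.Agent.BCDLib.Basic
import Groth.Agent.S0101

/-!
# Cohomology of an open subscheme as Ext out of an extension by zero

For an open immersion `j : W ⟶ X` the extension by zero `G_W` of the constant sheaf `ℤ` satisfies
`Extⁿ(G_W, F) = Hⁿ(W, F|_W)`, compatibly with pullback of classes.
-/

set_option autoImplicit false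
set_option backward.isDefEq.respectTransparency false
set_option backward.isDefEq.respectTransparency.types false
set_option linter.style.haveILetI false
set_option linter.unusedSectionVars false
set_option maxHeartbeats 1000000

universe u

open CategoryTheory CategoryTheory.Limits AlgebraicGeometry Opposite CategoryTheory.Abelian

attribute [local instance] Groth.Agent.S0101.result

noncomputable section

namespace Groth.Agent.OpenMVLib

open EtPtsLib

variable {X W : Scheme.{u}} (j : W ⟶ X) [IsOpenImmersion j] [EtShriek.JCont j]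

/-- The extension by zero of the constant sheaf. -/
abbrev GW : EtCoh.Ab X := (EtShriek.extZero j).obj ((EtShriek.restrAlong j).obj (EtCoh.const X ℤ))

/-- Its inclusion in the constant sheaf. -/
abbrev eps : GW j ⟶ EtCoh.const X ℤ := (EtShriek.extZeroAdj j).counit.app (EtCoh.const X ℤ)

theorem isIso_pull_eps {T : Scheme.{u}} (k : T ⟶ X) (h : Set.range k ⊆ Set.range j) :
    IsIso ((EtCoh.pull k).map (eps j)) := by
  refine FLCLib.isIso_of_stalk _ fun Ω _ _ ζ => ?_
  have hk : (ζ ≫ k) default ∈ Set.range j := h ⟨ζ default, (Scheme.Hom.comp_apply _ _ _).symm⟩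
  obtain ⟨θ, hθ⟩ := EtPtsLib.exists_comp_eq j (ζ ≫ k) hk
  refine (NatIso.isIso_map_iff (FLCLib.stalkPullIso k ζ) _).2 ?_
  rw [← hθ]
  exact FLCLib.isIso_stalk_counit_on j (EtCoh.const X ℤ) θ

theorem isIso_pull_eps_self : IsIso ((EtCoh.pull j).map (eps j)) := isIso_pull_eps j j subset_rfl

/-- The class of the unit section. -/
def eta : EtCoh.const W ℤ ⟶ (EtCoh.pull j).obj (GW j) :=
  (EtCore.pullConst j ℤ).inv ≫ @inv _ _ _ _ ((EtCoh.pull j).map (eps j)) (isIso_pull_eps_self j)

theorem eta_eps : eta j ≫ (EtCoh.pull j).map (eps j) = (EtCore.pullConst j ℤ).inv := by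
  haveI := isIso_pull_eps_self j
  rw [eta, Category.assoc, IsIso.inv_hom_id, Category.comp_id]

theorem bijective_eta (F : EtCoh.Ab X) :
    Function.Bijective fun φ : GW j ⟶ F => eta j ≫ (EtCoh.pull j).map φ := by
  haveI := isIso_pull_eps_self j
  haveI : IsIso (eta j) := by unfold eta; infer_instance
  haveI := isIso_unit_extZero j
  have h1 : Function.Bijective fun φ : GW j ⟶ F => (EtShriek.restrAlong j).map φ := by
    let u := (EtShriek.extZeroAdj j).unit.app ((EtShriek.restrAlong j).obj (EtCoh.const X ℤ))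
    have e : (fun φ : GW j ⟶ F => u ≫ (EtShriek.restrAlong j).map φ) =
        (EtShriek.extZeroAdj j).homEquiv _ F :=
      funext fun φ => ((EtShriek.extZeroAdj j).homEquiv_unit _ _ φ).symm
    have hb : Function.Bijective fun φ : GW j ⟶ F => u ≫ (EtShriek.restrAlong j).map φ := by
      rw [e]; exact Equiv.bijective _
    exact ⟨fun a b hab => hb.1 (congrArg (u ≫ ·) hab), fun y => by
      obtain ⟨φ, hφ⟩ := hb.2 (u ≫ y)
      exact ⟨φ, (cancel_epi u).1 hφ⟩⟩
  constructor
  · intro a b hab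
    refine h1.1 ?_
    have h := (cancel_epi (eta j)).1 hab
    show (EtShriek.restrAlong j).map a = (EtShriek.restrAlong j).map b
    rw [← cancel_epi ((pullIsoRestr j).hom.app (GW j)), ← (pullIsoRestr j).hom.naturality,
      ← (pullIsoRestr j).hom.naturality, h]
  · intro y
    obtain ⟨φ, hφ⟩ := h1.2 ((pullIsoRestr j).inv.app (GW j) ≫ inv (eta j) ≫ y ≫ (pullIsoRestr j).hom.app F)
    refine ⟨φ, ?_⟩
    show eta j ≫ (EtCoh.pull j).map φ = y
    rw [← cancel_mono ((pullIsoRestr j).hom.app F), Category.assoc, (pullIsoRestr j).hom.naturality]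
    simp only [] at hφ
    rw [hφ, Iso.hom_inv_id_app_assoc, IsIso.hom_inv_id_assoc]

/-- `Extⁿ(G_W, F) → Hⁿ(W, F|_W)`. -/
def Phi (F : EtCoh.Ab X) (n : ℕ) : Ext (GW j) F n →+ EtCoh.H W ((EtCoh.pull j).obj F) n :=
  haveI := BCDLib.rightExactPull j
  SiteBase.extUnitHom (G := EtCoh.pull j) (eta j) F n

theorem Phi_apply (F : EtCoh.Ab X) (n : ℕ) (x : Ext (GW j) F n) :
    haveI := BCDLib.rightExactPull j
    Phi j F n x = (Ext.mk₀ (eta j)).comp (x.mapExactFunctor (EtCoh.pull j)) (zero_add n) := rfl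

theorem bijective_Phi (F : EtCoh.Ab X) (n : ℕ) : Function.Bijective (Phi j F n) := by
  haveI := BCDLib.rightExactPull j
  refine SiteBase.extUnitHom_bijective (G := EtCoh.pull j) (eta j) (bijective_eta j) (fun I _ m => ?_) n F
  haveI := BCVertLib.injective_pull_etale j I
  exact Ext.subsingleton_of_injective _ _ m

theorem Phi_mk₀ {F : EtCoh.Ab X} (φ : GW j ⟶ F) :
    Phi j F 0 (Ext.mk₀ φ) = Ext.mk₀ (eta j ≫ (EtCoh.pull j).map φ) := by
  haveI := BCDLib.rightExactPull j
  exact SiteBase.extUnitHom_mk₀ (eta j) φ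

theorem Phi_δ {S : ShortComplex (EtCoh.Ab X)} (hS : S.ShortExact) (n : ℕ) (x : Ext (GW j) S.X₃ n)
    [PreservesFiniteColimits (EtCoh.pull j)] :
    Phi j S.X₁ (n + 1) (x.comp hS.extClass rfl) =
      (Phi j S.X₃ n x).comp (hS.map_of_exact (EtCoh.pull j)).extClass rfl := by
  rw [Phi, SiteBase.extUnitHom_comp, Ext.mapExactFunctor_extClass]
  rfl

theorem Phi_eps (F : EtCoh.Ab X) (n : ℕ) (x : EtCoh.H X F n) :
    Phi j F n ((Ext.mk₀ (eps j)).comp x (zero_add n)) = EtCore.Hpull j F n x := by
  haveI := BCDLib.rightExactPull j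
  rw [Phi_apply, Ext.mapExactFunctor_comp, Ext.mapExactFunctor_mk₀, Ext.mk₀_comp_mk₀_assoc, eta_eps]
  rfl

end Groth.Agent.OpenMVLib
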