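import Groth.Agent.OpenMVLib.Open
import Groth.Agent.BlowSquareLib.Square

/-!
# Compatibility with restriction to a smaller open
-/

set_option autoImplicit false
set_option backward.isDefEq.respectTransparency false
set_option backward.isDefEq.respectTransparency.types false
set_option linter.style.haveILetI false
set_option linter.unusedSectionVars false
set_option maxHeartbeats 1000000

universe u

open CategoryTheory CategoryTheory.Limits AlgebraicGeometry Opposite CategoryTheory.Abelian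

attribute [local instance] Groth.Agent.S0101.result

noncomputable section

namespace Groth.Agent.OpenMVLib

open EtPtsLib

/-- Relative pullback commutes with connecting classes. -/
theorem HpullVia_δ {A B C : Scheme.{u}} (t : B ⟶ A) (f : C ⟶ B) (m : C ⟶ A) (w : f ≫ t = m)
    [PreservesFiniteLimits (EtCoh.pull f)] {S : ShortComplex (EtCoh.Ab A)} (hS : S.ShortExact) (n : ℕ)
    (x : EtCoh.H B ((EtCoh.pull t).obj S.X₃) n) :
    EtCore.HpullVia f t m w S.X₁ (n + 1) (x.comp (hS.map_of_exact (EtCoh.pull t)).extClass rfl) =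
      (EtCore.HpullVia f t m w S.X₃ n x).comp (hS.map_of_exact (EtCoh.pull m)).extClass rfl := by
  let α := ((EtCore.pullComp f t).symm ≪≫ EtCore.pullCongr w).hom
  have h₁ := (hS.map_of_exact (EtCoh.pull t)).map_of_exact (EtCoh.pull f)
  let ψ : (S.map (EtCoh.pull t)).map (EtCoh.pull f) ⟶ S.map (EtCoh.pull m) :=
    { τ₁ := α.app S.X₁
      τ₂ := α.app S.X₂
      τ₃ := α.app S.X₃
      comm₁₂ := (α.naturality S.f).symm
      comm₂₃ := (α.naturality S.g).symm }
  rw [CompBCLib.HpullVia_eq, CompBCLib.HpullVia_eq]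
  erw [CompBCLib.Hpull_δ f (hS.map_of_exact (EtCoh.pull t)) x]
  have e := ShortComplex.ShortExact.extClass_naturality h₁ (hS.map_of_exact (EtCoh.pull m)) ψ
  show Ext.comp (Ext.comp _ h₁.extClass rfl) (Ext.mk₀ ψ.τ₁) (add_zero (n + 1)) =
    Ext.comp (Ext.comp _ (Ext.mk₀ ψ.τ₃) (add_zero n)) (hS.map_of_exact (EtCoh.pull m)).extClass rfl
  rw [Ext.comp_assoc_of_third_deg_zero, e, Ext.comp_assoc_of_second_deg_zero]
  rfl

variable {X W W' : Scheme.{u}} (j : W ⟶ X) [IsOpenImmersion j] [EtShriek.JCont j]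
  (m : W' ⟶ X) [IsOpenImmersion m] [EtShriek.JCont m] (k : W' ⟶ W) (w : k ≫ j = m)

include w in
theorem range_le : Set.range m ⊆ Set.range j := by
  rintro _ ⟨x, rfl⟩
  exact ⟨k x, by rw [← Scheme.Hom.comp_apply, w]⟩

include w in
theorem isIso_restr_eps : IsIso ((EtShriek.restrAlong m).map (eps j)) :=
  (NatIso.isIso_map_iff (pullIsoRestr m) _).1 (isIso_pull_eps j m (range_le j m k w))

/-- The inclusion between the extensions by zero. -/
def iota : GW m ⟶ GW j :=
  ((EtShriek.extZeroAdj m).homEquiv _ _).symm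
    (@inv _ _ _ _ ((EtShriek.restrAlong m).map (eps j)) (isIso_restr_eps j m k w))

theorem iota_eps : iota j m k w ≫ eps j = eps m := by
  haveI := isIso_restr_eps j m k w
  rw [iota, ← Adjunction.homEquiv_naturality_right_symm, IsIso.inv_hom_id, Adjunction.homEquiv_counit,
    CategoryTheory.Functor.map_id, Category.id_comp]

theorem mono_iota : Mono (iota j m k w) := by
  haveI := FLCLib.mono_counit m (EtCoh.const X ℤ)
  exact mono_of_mono_fac (iota_eps j m k w)

theorem via_eta :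
    EtCore.HpullVia k j m w (GW j) 0 (Ext.mk₀ (eta j)) =
      Ext.mk₀ (eta m ≫ (EtCoh.pull m).map (iota j m k w)) := by
  haveI := isIso_pull_eps j m (range_le j m k w)
  refine (BlowSquareLib.bijective_Hmap_of_isIso ((EtCoh.pull m).map (eps j)) 0).1 ?_
  rw [← CompBCLib.HpullVia_natural]
  show EtCore.HpullVia k j m w _ 0 ((Ext.mk₀ (eta j)).comp (Ext.mk₀ ((EtCoh.pull j).map (eps j))) (add_zero 0)) =
    (Ext.mk₀ (eta m ≫ (EtCoh.pull m).map (iota j m k w))).comp (Ext.mk₀ ((EtCoh.pull m).map (eps j))) (add_zero 0)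
  rw [Ext.mk₀_comp_mk₀, Ext.mk₀_comp_mk₀, eta_eps, Category.assoc, ← Functor.map_comp, iota_eps, eta_eps]
  have h : ∀ {V : Scheme.{u}} (g : V ⟶ X) [PreservesFiniteLimits (EtCoh.pull g)],
      EtCore.Hpull g (EtCoh.const X ℤ) 0 (Ext.mk₀ (𝟙 _)) = Ext.mk₀ (EtCore.pullConst g ℤ).inv := fun g _ => by
    show (Ext.mk₀ _).comp ((Ext.mk₀ (𝟙 (EtCoh.const X ℤ))).mapExactFunctor (EtCoh.pull g)) (zero_add 0) = _
    rw [Ext.mapExactFunctor_mk₀, CategoryTheory.Functor.map_id, Ext.mk₀_comp_mk₀, Category.comp_id]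
  rw [← h j, ← h m]
  exact CompBCLib.HpullVia_Hpull j k m w _ 0 _

theorem via_Phi (n : ℕ) : ∀ (F : EtCoh.Ab X) (e : Ext (GW j) F n),
    EtCore.HpullVia k j m w F n (Phi j F n e) =
      Phi m F n ((Ext.mk₀ (iota j m k w)).comp e (zero_add n)) := by
  induction n with
  | zero =>
    intro F e
    obtain ⟨φ, rfl⟩ := (Ext.mk₀_bijective _ _).2 e
    rw [Ext.mk₀_comp_mk₀, Phi_mk₀, Phi_mk₀, Functor.map_comp, ← Category.assoc]
    have h₁ : (Ext.mk₀ (eta j ≫ (EtCoh.pull j).map φ) : EtCoh.H W ((EtCoh.pull j).obj F) 0) =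
        Sheaf.H.map ((EtCoh.pull j).map φ) 0 (Ext.mk₀ (eta j)) := (Ext.mk₀_comp_mk₀ _ _).symm
    rw [h₁, CompBCLib.HpullVia_natural, via_eta]
    exact Ext.mk₀_comp_mk₀ _ _
  | succ n ih =>
    intro F e
    let S := ShortComplex.mk (Injective.ι F) (cokernel.π (Injective.ι F)) (cokernel.condition _)
    have hS : S.ShortExact := { exact := ShortComplex.exact_cokernel _, mono_f := Injective.ι_mono F }
    haveI : Injective S.X₂ := inferInstanceAs (Injective (Injective.under F))
    obtain ⟨q, rfl⟩ := Ext.covariant_sequence_exact₁ _ hS e (Ext.eq_zero_of_injective _) (rfl : n + 1 = n + 1)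
    rw [← Ext.comp_assoc (Ext.mk₀ (iota j m k w)) q hS.extClass (zero_add n) rfl (by omega)]
    show EtCore.HpullVia k j m w S.X₁ (n + 1) (Phi j S.X₁ (n + 1) (q.comp hS.extClass rfl)) =
      Phi m S.X₁ (n + 1) (((Ext.mk₀ (iota j m k w)).comp q (zero_add n)).comp hS.extClass rfl)
    rw [Phi_δ j hS, Phi_δ m hS, HpullVia_δ j k m w hS, ih]

end Groth.Agent.OpenMVLib
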